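import Groth.Agent.H4TorAR.Change

/-!
# Annihilation of higher `Tor` of `A/I^q`
-/

set_option autoImplicit false
set_option linter.style.haveILetI false

universe u

open CategoryTheory CategoryTheory.Limits MonoidalCategory

namespace Groth.Agent.H4TorAR

variable {A : Type u} [CommRing A]

theorem leftDerived_tensorLeft_map_smul (M : ModuleCat.{u} A) {X : ModuleCat.{u} A} (x : A) (n : ℕ) :
    ((CategoryTheory.Tor (ModuleCat.{u} A) n).obj M).map (x • 𝟙 X) = x • 𝟙 _ := by
  obtain ⟨P⟩ : Nonempty (ProjectiveResolution X) := HasProjectiveResolution.out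
  let F := (tensoringLeft (ModuleCat.{u} A)).obj M
  have h := P.isoLeftDerivedObj_hom_naturality (x • 𝟙 X) P (x • 𝟙 _) (by simp) F n
  show (F.leftDerived n).map (x • 𝟙 X) = _
  rw [← cancel_mono (P.isoLeftDerivedObj F n).hom, h]
  have hsm : (F.mapHomologicalComplex (ComplexShape.down ℕ)).map (x • 𝟙 P.complex) = x • 𝟙 _ := by
    ext i : 1
    show M ◁ (x • 𝟙 (P.complex.X i)) = x • 𝟙 _
    rw [MonoidalLinear.whiskerLeft_smul, MonoidalCategory.whiskerLeft_id]
    rfl
  show _ ≫ HomologicalComplex.homologyMap _ n = _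
  have hh : ∀ C : ChainComplex (ModuleCat.{u} A) ℕ, HomologicalComplex.homologyMap (x • 𝟙 C) n = x • 𝟙 _ := fun C => by
    show ShortComplex.homologyMap _ = _
    rw [show (HomologicalComplex.shortComplexFunctor _ _ n).map (x • 𝟙 C) = x • 𝟙 (C.sc n) from rfl,
      ShortComplex.homologyMap_smul, ShortComplex.homologyMap_id]
    rfl
  rw [hsm, hh, Linear.comp_smul, Category.comp_id]
  exact ((Linear.smul_comp _ _ _ _ _ _).trans (congrArg (fun m => x • m) (Category.id_comp _))).symm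

variable [IsNoetherianRing A] (I : Ideal A) (t : ℕ) (s : Finset A) (hs : I = Ideal.span (s : Set A))

include hs in
theorem exists_map_eq_zero (ht : s.card ≤ t) :
    ∃ c : ℕ, ∀ i : ℕ, t ≤ i → ∀ (M : Type u) [AddCommGroup M] [Module A M] (a b : ℕ) (h : b + c ≤ a),
      ((CategoryTheory.Tor (ModuleCat.{u} A) (i + 1)).obj (ModuleCat.of A M)).map
        (q I ((Nat.le_add_right b c).trans h)) = 0 := by
  obtain ⟨c, hc⟩ := exists_uniform I (fun j : Fin s.card => (s.equivFin.symm j : A)) (by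
    rw [hs]
    exact congrArg Ideal.span (Set.ext fun x => ⟨fun hx => ⟨s.equivFin ⟨x, hx⟩, by simp⟩, by
      rintro ⟨j, rfl⟩; exact (s.equivFin.symm j).2⟩))
  exact ⟨c, fun i hi => hc i (ht.trans hi)⟩

include hs in
theorem exists_annihilate (ht : s.card ≤ t) :
    ∃ c : ℕ, ∀ (M : Type u) [AddCommGroup M] [Module A M] (i n : ℕ), t < i → ∀ a ∈ I ^ c,
      a • 𝟙 (((CategoryTheory.Tor (ModuleCat.{u} A) i).obj (ModuleCat.of A M)).obj
        (ModuleCat.of A (A ⧸ I ^ n))) = 0 := by
  obtain ⟨c, hc⟩ := exists_map_eq_zero I t s hs ht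
  refine ⟨c, fun M _ _ i n hi a ha => ?_⟩
  rcases Nat.lt_or_ge n c with hn | hn
  · have h0 : a • 𝟙 (ModuleCat.of A (A ⧸ I ^ n)) = (0 : A) • 𝟙 _ := by
      rw [zero_smul]
      refine ModuleCat.hom_ext (LinearMap.ext fun x => ?_)
      obtain ⟨r, rfl⟩ := Submodule.Quotient.mk_surjective _ x
      show a • (Submodule.Quotient.mk r : A ⧸ I ^ n) = 0
      rw [← Submodule.Quotient.mk_smul, Submodule.Quotient.mk_eq_zero]
      exact Ideal.mul_mem_right r _ (Ideal.pow_le_pow_right hn.le ha)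
    rw [← leftDerived_tensorLeft_map_smul, h0, leftDerived_tensorLeft_map_smul, zero_smul]
  · obtain ⟨j, rfl⟩ := Nat.exists_eq_add_of_le' (show 1 ≤ i by omega)
    let μ : ModuleCat.of A (A ⧸ I ^ (n - c)) ⟶ ModuleCat.of A (A ⧸ I ^ n) :=
      ModuleCat.ofHom (Submodule.mapQ (I ^ (n - c)) (I ^ n) (a • LinearMap.id) fun r hr => by
        show a * r ∈ I ^ n
        rw [show n = c + (n - c) by omega, pow_add]
        exact Ideal.mul_mem_mul ha hr)
    have h1 : a • 𝟙 (ModuleCat.of A (A ⧸ I ^ n)) = q I (Nat.sub_le n c) ≫ μ := by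
      refine ModuleCat.hom_ext (LinearMap.ext fun x => ?_)
      obtain ⟨r, rfl⟩ := Submodule.Quotient.mk_surjective _ x
      rfl
    rw [← leftDerived_tensorLeft_map_smul, h1, CategoryTheory.Functor.map_comp,
      hc j (by omega) M n (n - c) (by omega), zero_comp]

end Groth.Agent.H4TorAR
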