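import Groth.Agent.H4TorAR.Annihilate
import Groth.Agent.H26Tor.Resolution
import Groth.Agent.H1TorFlip.Flip
import Groth.Prelude.Def_BlowUp2
import Mathlib.Algebra.Category.ModuleCat.FilteredColimits
import Mathlib.CategoryTheory.Limits.Types.Filtered

/-!
# Higher `Tor` of an affine blow-up algebra
-/

set_option autoImplicit false
set_option linter.style.haveILetI false

universe u

open CategoryTheory CategoryTheory.Limits MonoidalCategory

namespace Groth.Agent.H4TorAR

variable {A : Type u} [CommRing A] (I : Ideal A) (a : A)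

/-- The index set. -/
abbrev NJ : Type u := ULift.{u} ℕ

instance : IsFiltered NJ.{u} := by
  haveI : IsDirectedOrder NJ.{u} := ⟨fun x y => ⟨⟨max x.down y.down⟩, le_max_left _ _, le_max_right _ _⟩⟩
  haveI : Nonempty NJ.{u} := ⟨⟨0⟩⟩
  infer_instance

variable {I a}

lemma le_down {m n : NJ.{u}} (h : m ⟶ n) : m.down ≤ n.down := (leOfHom h : m ≤ n)

lemma pow_mul_mem (ha : a ∈ I) {m n : ℕ} (h : m ≤ n) {x : A} (hx : x ∈ I ^ m) : a ^ (n - m) * x ∈ I ^ n := by
  have := Ideal.mul_mem_mul (Ideal.pow_mem_pow ha (n - m)) hx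
  rwa [← pow_add, Nat.sub_add_cancel h] at this

/-- The transition map `I^m → I^n`. -/
noncomputable def transition (ha : a ∈ I) {m n : ℕ} (h : m ≤ n) :
    ↥(I ^ m) →ₗ[A] ↥(I ^ n) where
  toFun x := ⟨a ^ (n - m) * x.1, pow_mul_mem ha h x.2⟩
  map_add' x y := Subtype.ext (mul_add _ _ _)
  map_smul' r x := Subtype.ext (mul_left_comm _ _ _)

/-- The system `I^n`, with multiplication by `a`. -/
noncomputable def powers (ha : a ∈ I) : NJ.{u} ⥤ ModuleCat.{u} A where
  obj n := ModuleCat.of A (I ^ n.down : Ideal A)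
  map {m n} h := ModuleCat.ofHom (transition ha (le_down h))
  map_id n := ModuleCat.hom_ext (LinearMap.ext fun x => Subtype.ext (by
    show a ^ (n.down - n.down) * (x.1 : A) = x.1
    rw [Nat.sub_self, pow_zero, one_mul]))
  map_comp {l m n} h h' := ModuleCat.hom_ext (LinearMap.ext fun x => Subtype.ext (by
    show a ^ (n.down - l.down) * (x.1 : A) = a ^ (n.down - m.down) * (a ^ (m.down - l.down) * x.1)
    have := le_down h
    have := le_down h'
    rw [← mul_assoc, ← pow_add, show n.down - m.down + (m.down - l.down) = n.down - l.down by omega]))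

/-- `x / aⁿ`. -/
noncomputable def frac (n : ℕ) (x : A) : Localization.Away a :=
  IsLocalization.mk' _ x (Submonoid.pow a n)

lemma frac_mul (m n : ℕ) (x y : A) : (frac m x * frac n y : Localization.Away a) = frac (m + n) (x * y) := by
  rw [frac, frac, frac, ← IsLocalization.mk'_mul]
  exact congrArg _ (Subtype.ext (pow_add a m n).symm)

lemma frac_add (n : ℕ) (x y : A) : (frac n (x + y) : Localization.Away a) = frac n x + frac n y := by
  rw [frac, frac, frac, IsLocalization.mk'_eq_mul_mk'_one, map_add, add_mul,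
    ← IsLocalization.mk'_eq_mul_mk'_one, ← IsLocalization.mk'_eq_mul_mk'_one]

lemma frac_shift (m k : ℕ) (x : A) : (frac (k + m) (a ^ k * x) : Localization.Away a) = frac m x := by
  rw [frac, frac, IsLocalization.mk'_eq_iff_eq]
  refine congrArg _ ?_
  show a ^ m * (a ^ k * x) = a ^ (k + m) * x
  rw [pow_add]; ring

lemma frac_mem {n : ℕ} : ∀ {x : A}, x ∈ I ^ n → (frac n x : Localization.Away a) ∈ BlowUp.affineAlgebra A I a := by
  induction n with
  | zero =>
    intro x _
    have : (frac 0 x : Localization.Away a) = algebraMap A _ x := by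
      rw [frac, IsLocalization.mk'_eq_iff_eq_mul]; simp
    rw [this]
    exact Subalgebra.algebraMap_mem _ x
  | succ n ih =>
    intro x hx
    rw [pow_succ] at hx
    refine Submodule.mul_induction_on hx (fun y hy z hz => ?_) fun y z hy hz => ?_
    · rw [← frac_mul n 1 y z]
      refine mul_mem (ih hy) (Algebra.subset_adjoin ⟨z, hz, ?_⟩)
      exact congrArg _ (Subtype.ext (pow_one a))
    · rw [frac_add]
      exact add_mem hy hz

lemma exists_frac (ha : a ∈ I) {b : Localization.Away a} (hb : b ∈ BlowUp.affineAlgebra A I a) :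
    ∃ (n : ℕ) (x : A), x ∈ I ^ n ∧ b = frac n x := by
  induction hb using Algebra.adjoin_induction with
  | mem b hb =>
    obtain ⟨x, hx, rfl⟩ := hb
    exact ⟨1, x, by rwa [pow_one], congrArg _ (Subtype.ext (pow_one a).symm)⟩
  | algebraMap r =>
    refine ⟨0, r, by rw [pow_zero, Ideal.one_eq_top]; trivial, ?_⟩
    rw [frac, eq_comm, IsLocalization.mk'_eq_iff_eq_mul]; simp
  | add b b' _ _ h h' =>
    obtain ⟨m, x, hx, rfl⟩ := h
    obtain ⟨n, y, hy, rfl⟩ := h'
    refine ⟨n + m, a ^ n * x + a ^ m * y, add_mem ?_ ?_, ?_⟩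
    · have := pow_mul_mem ha (Nat.le_add_left m n) hx
      rwa [Nat.add_sub_cancel] at this
    · have := pow_mul_mem ha (Nat.le_add_right n m) hy
      rwa [Nat.add_sub_cancel_left] at this
    · rw [← frac_shift m n x, ← frac_shift n m y, Nat.add_comm m n, ← frac_add]
  | mul b b' _ _ h h' =>
    obtain ⟨m, x, hx, rfl⟩ := h
    obtain ⟨n, y, hy, rfl⟩ := h'
    exact ⟨m + n, x * y, by rw [pow_add]; exact Ideal.mul_mem_mul hx hy, frac_mul m n x y⟩

/-- The map `I^n → A[I/a]`, `x ↦ x / aⁿ`. -/
noncomputable def toBlowUp (n : ℕ) : ↥(I ^ n) →ₗ[A] BlowUp.affineAlgebra A I a where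
  toFun x := ⟨frac n x.1, frac_mem x.2⟩
  map_add' x y := Subtype.ext (frac_add n x.1 y.1)
  map_smul' r x := Subtype.ext (by
    show frac n (r * x.1) = r • frac n x.1
    rw [frac, frac, Algebra.smul_def, IsLocalization.mul_mk'_eq_mk'_of_mul])

/-- `A[I/a]` is the colimit of the powers of `I`. -/
noncomputable def cocone (ha : a ∈ I) : Cocone (powers ha) where
  pt := ModuleCat.of A (BlowUp.affineAlgebra A I a)
  ι :=
    { app := fun n => ModuleCat.ofHom (toBlowUp n.down)
      naturality := fun m n h => ModuleCat.hom_ext (LinearMap.ext fun x => Subtype.ext (by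
        show frac n.down (a ^ (n.down - m.down) * (x.1 : A)) = frac m.down x.1
        have e := frac_shift (a := a) m.down (n.down - m.down) x.1
        rw [Nat.sub_add_cancel (le_down h)] at e
        exact e)) }

/-- The colimit property. -/
noncomputable def cocone_isColimit (ha : a ∈ I) : IsColimit (cocone ha) := by
  refine isColimitOfReflects (forget (ModuleCat.{u} A)) (Types.FilteredColimit.isColimitOf' _ _ (fun b => ?_) ?_)
  · obtain ⟨n, x, hx, he⟩ := exists_frac ha (show (b : BlowUp.affineAlgebra A I a).1 ∈ _ from b.2)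
    exact ⟨⟨n⟩, ⟨x, hx⟩, Subtype.ext he⟩
  · intro i x y h
    have h' : frac i.down x.1 = frac i.down y.1 := congrArg Subtype.val h
    obtain ⟨⟨_, k, rfl⟩, hk⟩ := IsLocalization.eq.1 h'
    refine ⟨⟨i.down + (k + i.down)⟩, homOfLE (show i.down ≤ i.down + (k + i.down) by omega), Subtype.ext ?_⟩
    show a ^ (i.down + (k + i.down) - i.down) * (x.1 : A) = a ^ (i.down + (k + i.down) - i.down) * y.1
    rw [Nat.add_sub_cancel_left, pow_add, mul_assoc, mul_assoc]
    exact hk

/-- `I^c` kills `Tor_i(A[I/a], M)` for `i` at least the number of generators. -/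
theorem exists_annihilate_blowUp [IsNoetherianRing A] (t : ℕ) (s : Finset A) (hs : I = Ideal.span (s : Set A))
    (ht : s.card ≤ t) (ha : a ∈ I) :
    ∃ c : ℕ, ∀ (M : Type u) [AddCommGroup M] [Module A M] (i : ℕ), t ≤ i → 0 < i → ∀ x ∈ I ^ c,
      ∀ y : ((CategoryTheory.Tor (ModuleCat.{u} A) i).obj (ModuleCat.of A (BlowUp.affineAlgebra A I a))).obj
        (ModuleCat.of A M), x • y = 0 := by
  obtain ⟨c, hc⟩ := exists_annihilate I t s hs ht
  refine ⟨c, fun M _ _ i hi hi0 x hx y => ?_⟩
  obtain ⟨j, rfl⟩ := Nat.exists_eq_add_of_le' (show 1 ≤ i from hi0)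
  -- each stage is killed
  have hstage : ∀ n : ℕ, ∀ y : ((CategoryTheory.Tor (ModuleCat.{u} A) (j + 1)).obj
      (ModuleCat.of A (I ^ n : Ideal A))).obj (ModuleCat.of A M), x • y = 0 := fun n y => by
    let e := ((H1TorFlip.torFlip A (j + 1)).app (ModuleCat.of A (I ^ n : Ideal A))).app (ModuleCat.of A M)
    let fS : ModuleCat.of A (I ^ n : Ideal A) ⟶ ModuleCat.of A A := ModuleCat.ofHom (Submodule.subtype (I ^ n))
    let gS : ModuleCat.of A A ⟶ ModuleCat.of A (A ⧸ I ^ n) := ModuleCat.ofHom (Submodule.mkQ (I ^ n))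
    have w : fS ≫ gS = 0 :=
      ModuleCat.hom_ext (LinearMap.exact_subtype_mkQ (I ^ n)).linearMap_comp_eq_zero
    have hS : (ShortComplex.mk fS gS w).ShortExact := ModuleCat.shortComplex_shortExact _
      (LinearMap.exact_subtype_mkQ (I ^ n)) (Submodule.injective_subtype _) (Submodule.mkQ_surjective _)
    obtain ⟨-, -, δ, w₁, w₂, -, e₂⟩ := H3CAlg.leftDerived_les
      ((tensoringLeft (ModuleCat.{u} A)).obj (ModuleCat.of A M)) _ hS (j + 1)
    haveI := e₂.epi_f ((isZero_Tor_succ_of_projective _ (ModuleCat.of A M) (ModuleCat.of A A) j).eq_of_tgt _ _)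
    obtain ⟨z, hz⟩ := (ModuleCat.epi_iff_surjective δ).1 inferInstance (e.hom y)
    refine e.toLinearEquiv.map_eq_zero_iff.1 ((LinearMap.map_smul e.hom.hom x y).trans ?_)
    refine (congrArg (fun v => x • v) hz.symm).trans ((LinearMap.map_smul δ.hom x z).symm.trans ?_)
    exact (congrArg δ.hom (congrArg (fun f => f.hom z) (hc M (j + 1 + 1) n (by omega) x hx))).trans (map_zero _)
  haveI := H26Tor.preservesColimitsOfShape_tor_flip (J := NJ.{u}) (ModuleCat.of A M) (j + 1)
  obtain ⟨n, z, rfl⟩ := Concrete.isColimit_exists_rep _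
    (isColimitOfPreserves ((CategoryTheory.Tor (ModuleCat.{u} A) (j + 1)).flip.obj (ModuleCat.of A M))
      (cocone_isColimit ha)) y
  let φ := ((CategoryTheory.Tor (ModuleCat.{u} A) (j + 1)).map ((cocone ha).ι.app n)).app (ModuleCat.of A M)
  show x • φ.hom z = 0
  exact (φ.hom.map_smul x z).symm.trans ((congrArg φ.hom (hstage n.down z)).trans (map_zero _))

end Groth.Agent.H4TorAR
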