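import Groth.Agent.H4TorAR.Koszul

/-!
# Comparison of `Tor` along a surjection of rings
-/

set_option autoImplicit false
set_option linter.style.haveILetI false

universe u

open CategoryTheory CategoryTheory.Limits MonoidalCategory TensorProduct

namespace Groth.Agent.H4TorAR

open Groth.Agent.H3CAlg

variable {P A : Type u} [CommRing P] [CommRing A] [Algebra P A]

lemma mem_smul_top_iff_map (J : Ideal P) (m : ℕ) {M : Type u} [AddCommGroup M] [Module P M] [Module A M]
    [IsScalarTower P A M] (y : M) :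
    y ∈ J ^ m • (⊤ : Submodule P M) ↔ y ∈ (J.map (algebraMap P A)) ^ m • (⊤ : Submodule A M) := by
  rw [← Ideal.map_pow, ← Submodule.restrictScalars_mem P ((J ^ m).map (algebraMap P A) • (⊤ : Submodule A M)),
    Submodule.restrictScalars_map_smul_eq, Submodule.restrictScalars_top]

lemma shortExact_restrict {M N : Type u} [AddCommGroup M] [Module P M] [Module A M] [IsScalarTower P A M]
    [AddCommGroup N] [Module P N] [Module A N] [IsScalarTower P A N] (g : M →ₗ[A] N) (hg : Function.Surjective g) :
    ∃ (f' : ModuleCat.of P (LinearMap.ker g) ⟶ ModuleCat.of P M) (g' : ModuleCat.of P M ⟶ ModuleCat.of P N)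
      (w : f' ≫ g' = 0), (ShortComplex.mk f' g' w).ShortExact ∧ ∀ y : LinearMap.ker g, f'.hom y = y.1 := by
  let f' : ModuleCat.of P (LinearMap.ker g) ⟶ ModuleCat.of P M :=
    ModuleCat.ofHom ((LinearMap.ker g).subtype.restrictScalars P)
  let g' : ModuleCat.of P M ⟶ ModuleCat.of P N := ModuleCat.ofHom (g.restrictScalars P)
  have w : f' ≫ g' = 0 := ModuleCat.hom_ext (LinearMap.ext fun x => x.2)
  exact ⟨f', g', w, ModuleCat.shortComplex_shortExact _ (LinearMap.exact_subtype_ker_map g)
    (Submodule.injective_subtype _) hg, fun _ => rfl⟩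

/-- From vanishing on `P` in degree `j + 1` to vanishing on `A`. -/
theorem exists_descend (hsurj : Function.Surjective (algebraMap P A)) (J : Ideal P) (I : Ideal A)
    (hI : I = J.map (algebraMap P A)) (c : ℕ) (t : ℕ)
    (hc : ∀ (i : ℕ), i < t → ∀ (ι : Type u) (a b : ℕ) (h : b + c ≤ a),
      ((CategoryTheory.Tor (ModuleCat.{u} P) (i + 1)).obj (ModuleCat.of P (ι →₀ A))).map
        (q J ((Nat.le_add_right b c).trans h)) = 0) :
    ∀ j : ℕ, j ≤ t → ∀ (M : Type u) [AddCommGroup M] [Module P M] [Module A M] [IsScalarTower P A M]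
      (n m k : ℕ) (hkm : k ≤ m) (hmn : m + j * c ≤ n),
      ((CategoryTheory.Tor (ModuleCat.{u} P) (j + 1)).obj (ModuleCat.of P M)).map (q J hkm) = 0 →
      ((CategoryTheory.Tor (ModuleCat.{u} A) (j + 1)).obj (ModuleCat.of A M)).map
        (q I (hkm.trans ((Nat.le_add_right m _).trans hmn))) = 0 := by
  intro j
  induction j with
  | zero =>
    intro _ M _ _ _ _ n m k hkm hmn h
    have hmn' : m ≤ n := (Nat.le_add_right m _).trans hmn
    let g : (M →₀ A) →ₗ[A] M := Finsupp.linearCombination A id
    have hg : Function.Surjective g := fun x => ⟨Finsupp.single x 1, by simp [g]⟩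
    have key : ((CategoryTheory.Tor (ModuleCat.{u} A) 1).obj (ModuleCat.of A M)).map (q I hkm) = 0 := by
      refine Tor.one_map_eq_zero _ (shortExact_of_surjective g hg) (q I hkm) fun z hz => ?_
      obtain ⟨y, rfl⟩ := exists_eq_tmul_one (I ^ m) z
      replace hz : (y : M →₀ A) ∈ I ^ m • (⊤ : Submodule A (M →₀ A)) := (tmul_one_eq_zero_iff _ _).1 hz
      refine (tmul_one_eq_zero_iff (I ^ k) y).2 ?_
      subst hI
      obtain ⟨f', g', w, hSP, hf'⟩ := shortExact_restrict (P := P) g hg
      refine (mem_smul_top_iff_map J k (y : LinearMap.ker g)).1 ?_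
      replace hz := (mem_smul_top_iff_map J m (y : M →₀ A)).2 hz
      exact (tmul_one_eq_zero_iff (J ^ k) (y : LinearMap.ker g)).1
        (tensor_killed _ hSP (q J hkm) h ((y : LinearMap.ker g) ⊗ₜ[P] Submodule.Quotient.mk (1 : P))
          (by
            show f'.hom.rTensor _ ((y : LinearMap.ker g) ⊗ₜ[P] _) = 0
            rw [LinearMap.rTensor_tmul, hf']
            exact (tmul_one_eq_zero_iff (J ^ m) _).2 hz))
    rw [← q_comp I hmn' hkm, CategoryTheory.Functor.map_comp, key, comp_zero]
  | succ j ih =>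
    intro hj M _ _ _ _ n m k hkm hmn h
    let g : (M →₀ A) →ₗ[A] M := Finsupp.linearCombination A id
    have hg : Function.Surjective g := fun x => ⟨Finsupp.single x 1, by simp [g]⟩
    obtain ⟨f', g', w, hSP, -⟩ := shortExact_restrict (P := P) g hg
    have hK := tor_map_comp_eq_zero' _ hSP (q J (Nat.le_add_right m c)) (q J hkm) (j + 1)
      (hc j (Nat.lt_of_succ_le hj) M (m + c) m le_rfl) h
    rw [q_comp] at hK
    have hA := ih (Nat.le_of_succ_le hj) (LinearMap.ker g) n (m + c) k (hkm.trans (Nat.le_add_right m c))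
      (by rw [Nat.succ_mul] at hmn; omega) hK
    have := tor_map_comp_eq_zero _ (shortExact_of_surjective g hg)
      (q I (hkm.trans ((Nat.le_add_right m _).trans hmn))) (𝟙 _) (j + 1) hA
      ((H1CAlg.isZero_Tor_of_flat (ModuleCat.of A (M →₀ A)) _ (j + 1)).eq_of_src _ _)
    rwa [Category.comp_id] at this

/-- `Torᵢ(M, A/Iⁿ) → Torᵢ(M, A/Iⁿ⁻ᶜ)` vanishes for `i > t`, `I` generated by `t` elements. -/
theorem exists_uniform [IsNoetherianRing A] (I : Ideal A) {t : ℕ} (f : Fin t → A)
    (hf : I = Ideal.span (Set.range f)) :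
    ∃ c : ℕ, ∀ i : ℕ, t ≤ i → ∀ (M : Type u) [AddCommGroup M] [Module A M] (a b : ℕ) (h : b + c ≤ a),
      ((CategoryTheory.Tor (ModuleCat.{u} A) (i + 1)).obj (ModuleCat.of A M)).map
        (q I ((Nat.le_add_right b c).trans h)) = 0 := by
  classical
  letI : Algebra (MvPolynomial (Fin t) A) A := (MvPolynomial.aeval f).toRingHom.toAlgebra
  let P := MvPolynomial (Fin t) A
  let J : Ideal P := MvPolynomial.idealOfVars (Fin t) A
  have hsurj : Function.Surjective (algebraMap P A) := fun a => ⟨MvPolynomial.C a, MvPolynomial.aeval_C f a⟩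
  have hI : I = J.map (algebraMap P A) := by
    rw [hf, Ideal.map_span, ← Set.range_comp]
    exact congrArg (fun s => Ideal.span (Set.range s)) (funext fun i => (MvPolynomial.aeval_X f i).symm)
  haveI : Module.Finite P A := Module.Finite.of_surjective (Algebra.linearMap P A) hsurj
  choose c₀ hc₀ using fun i : ℕ => exists_finite J i A
  let c := (Finset.range t).sup c₀
  have hc : ∀ (i : ℕ), i < t → ∀ (ι : Type u) (a b : ℕ) (h : b + c ≤ a),
      ((CategoryTheory.Tor (ModuleCat.{u} P) (i + 1)).obj (ModuleCat.of P (ι →₀ A))).map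
        (q J ((Nat.le_add_right b c).trans h)) = 0 := fun i hi ι a b h => by
    have hle : c₀ i ≤ c := Finset.le_sup (Finset.mem_range.2 hi)
    rw [← q_comp J (Nat.sub_le a (c₀ i)) (show b ≤ a - c₀ i by omega), CategoryTheory.Functor.map_comp,
      hc₀ i ι a (by omega), zero_comp]
  refine ⟨t * c, fun i hi => ?_⟩
  induction i, hi using Nat.le_induction with
  | base =>
    intro M _ _ a b h
    letI : Module P M := Module.compHom M (algebraMap P A)
    haveI : IsScalarTower P A M := ⟨fun p a m => by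
      rw [Algebra.smul_def, mul_smul]; rfl⟩
    exact exists_descend hsurj J I hI c t hc t le_rfl M a b b le_rfl h
      ((isZero_tor_quot_pow_vars A t (ModuleCat.of P M) b (t + 1) (Nat.lt_succ_self t)).eq_of_tgt _ _)
  | succ i _ ih =>
    intro M _ _ a b h
    let g : (M →₀ A) →ₗ[A] M := Finsupp.linearCombination A id
    have hg : Function.Surjective g := fun x => ⟨Finsupp.single x 1, by simp [g]⟩
    have := tor_map_comp_eq_zero _ (shortExact_of_surjective g hg)
      (q I ((Nat.le_add_right b (t * c)).trans h)) (𝟙 _) (i + 1) (ih (LinearMap.ker g) a b h)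
      ((H1CAlg.isZero_Tor_of_flat (ModuleCat.of A (M →₀ A)) _ (i + 1)).eq_of_src _ _)
    rwa [Category.comp_id] at this

end Groth.Agent.H4TorAR
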