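import Groth.Agent.H4TorAR
import Groth.Agent.H4KoszExt.Top
import Groth.Agent.H4Gr.PolyRing
import Mathlib.RingTheory.MvPolynomial.Ideal

/-!
# Artin–Rees for `Tor` above the number of generators
-/

set_option autoImplicit false
set_option linter.style.haveILetI false

universe u v v' u'

open CategoryTheory CategoryTheory.Limits MonoidalCategory TensorProduct

namespace Groth.Agent.H4TorAR

open Groth.Agent.H3CAlg

section General

variable {C : Type u} [Category.{v} C] [Abelian C] [EnoughProjectives C]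
  {D : Type u'} [Category.{v'} D] [Abelian D]

/-- Classes killed by `LₙF → LₙG` die under a map killing `Lₙ₊₁H`. -/
theorem leftDerived_killed_map_eq_zero {F G H : C ⥤ D} [F.Additive] [G.Additive] [H.Additive]
    (α : F ⟶ G) (β : G ⟶ H) (w : ∀ X : C, α.app X ≫ β.app X = 0)
    (hex : ∀ (X : C) [Projective X], (ShortComplex.mk (α.app X) (β.app X) (w X)).ShortExact)
    {Y W : C} (g : Y ⟶ W) (n : ℕ) {T : D} (u : T ⟶ (F.leftDerived n).obj Y)
    (hu : u ≫ (NatTrans.leftDerived α n).app Y = 0) (hg : (H.leftDerived (n + 1)).map g = 0) :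
    u ≫ (F.leftDerived n).map g = 0 := by
  let P := projectiveResolution Y
  let Q := projectiveResolution W
  let φ := ProjectiveResolution.lift g P Q
  have hφ : φ.f 0 ≫ Q.π.f 0 = P.π.f 0 ≫ g := by
    exact ProjectiveResolution.lift_commutes_zero g P Q
  let mkT : ∀ {Z : C} (R : ProjectiveResolution Z), ShortComplex (ChainComplex D ℕ) := fun R =>
    ShortComplex.mk ((NatTrans.mapHomologicalComplex α (ComplexShape.down ℕ)).app R.complex)
      ((NatTrans.mapHomologicalComplex β (ComplexShape.down ℕ)).app R.complex) (by ext i; exact w _)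
  have hT : ∀ {Z : C} (R : ProjectiveResolution Z), (mkT R).ShortExact := fun R =>
    HomologicalComplex.shortExact_of_degreewise_shortExact _ fun i => hex (R.complex.X i)
  let Φ : mkT P ⟶ mkT Q := ShortComplex.homMk ((F.mapHomologicalComplex _).map φ)
    ((G.mapHomologicalComplex _).map φ) ((H.mapHomologicalComplex _).map φ)
    ((NatTrans.mapHomologicalComplex α (ComplexShape.down ℕ)).naturality φ)
    ((NatTrans.mapHomologicalComplex β (ComplexShape.down ℕ)).naturality φ)
  have hrel : (ComplexShape.down ℕ).Rel (n + 1) n := rfl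
  let δ : ∀ {Z : C} (R : ProjectiveResolution Z),
      (H.leftDerived (n + 1)).obj Z ⟶ (F.leftDerived n).obj Z := fun R =>
    (R.isoLeftDerivedObj H (n + 1)).hom ≫ (hT R).δ (n + 1) n hrel ≫ (R.isoLeftDerivedObj F n).inv
  have nat₁ : (NatTrans.leftDerived α n).app Y ≫ (P.isoLeftDerivedObj G n).hom =
      (P.isoLeftDerivedObj F n).hom ≫ HomologicalComplex.homologyMap (mkT P).f n := by
    rw [P.leftDerived_app_eq α n]
    simp only [Category.assoc]
    erw [Iso.inv_hom_id, Category.comp_id]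
    rfl
  have hδ : δ P ≫ (P.isoLeftDerivedObj F n).hom =
      (P.isoLeftDerivedObj H (n + 1)).hom ≫ (hT P).δ (n + 1) n hrel :=
    (Category.assoc _ _ _).trans (congrArg (fun m => _ ≫ m) ((Category.assoc _ _ _).trans
      ((congrArg (fun m => _ ≫ m) (P.isoLeftDerivedObj F n).inv_hom_id).trans (Category.comp_id _))))
  obtain ⟨w₂, h₂⟩ := exact_of_homology _ _ _ hδ nat₁ ((hT P).homology_exact₁ (n + 1) n hrel)
  have hnat : (H.leftDerived (n + 1)).map g ≫ δ Q = δ P ≫ (F.leftDerived n).map g :=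
    conj_comm _ _ (P.isoLeftDerivedObj_hom_naturality g Q φ hφ H (n + 1))
      (P.isoLeftDerivedObj_hom_naturality g Q φ hφ F n)
      (HomologicalComplex.HomologySequence.δ_naturality Φ (hT P) (hT Q) (n + 1) n hrel)
  obtain ⟨A, π, hπ, y, hy⟩ := h₂.exact_up_to_refinements u hu
  refine (cancel_epi π).1 ?_
  rw [comp_zero, ← Category.assoc, hy]
  dsimp only
  exact (Category.assoc _ _ _).trans ((congrArg (fun m => y ≫ m) hnat.symm).trans
    ((congrArg (fun m => y ≫ m ≫ δ Q) hg).trans ((congrArg (fun m => y ≫ m) zero_comp).trans comp_zero)))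

end General

variable {R : Type u} [CommRing R]

section SES

variable (S : ShortComplex (ModuleCat.{u} R)) (hS : S.ShortExact)

include hS in
/-- Descending from `Torₙ₊₁(S.X₃)` to `Torₙ(S.X₁)`. -/
theorem tor_map_comp_eq_zero' {X Y W : ModuleCat.{u} R} (f : X ⟶ Y) (g : Y ⟶ W) (n : ℕ)
    (hf : ((CategoryTheory.Tor (ModuleCat.{u} R) n).obj S.X₂).map f = 0)
    (hg : ((CategoryTheory.Tor (ModuleCat.{u} R) (n + 1)).obj S.X₃).map g = 0) :
    ((CategoryTheory.Tor (ModuleCat.{u} R) n).obj S.X₁).map (f ≫ g) = 0 := by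
  rw [CategoryTheory.Functor.map_comp]
  refine leftDerived_killed_map_eq_zero ((tensoringLeft (ModuleCat.{u} R)).map S.f)
    ((tensoringLeft (ModuleCat.{u} R)).map S.g) (whisker_zero S)
    (fun Z _ => whisker_shortExact S hS Z) g n _ ?_ hg
  refine ((NatTrans.leftDerived ((tensoringLeft (ModuleCat.{u} R)).map S.f) n).naturality f).trans ?_
  exact (congrArg (fun m => _ ≫ m) hf).trans comp_zero

include hS in
/-- The kernel of `S.X₁ ⊗ Y → S.X₂ ⊗ Y` dies under a map killing `Tor₁(S.X₃)`. -/
theorem tensor_killed {Y W : ModuleCat.{u} R} (g : Y ⟶ W)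
    (hg : ((CategoryTheory.Tor (ModuleCat.{u} R) 1).obj S.X₃).map g = 0)
    (z : S.X₁ ⊗[R] Y) (hz : S.f.hom.rTensor Y z = 0) : g.hom.lTensor S.X₁ z = 0 := by
  let e : ∀ L Z : ModuleCat.{u} R, ((CategoryTheory.Tor (ModuleCat.{u} R) 0).obj L).obj Z ≅ L ⊗ Z :=
    fun L Z => (Tor.zeroIso L).app Z
  let z₀ : ModuleCat.of R R ⟶ S.X₁ ⊗ Y := ModuleCat.ofHom (LinearMap.toSpanSingleton R (S.X₁ ⊗[R] Y) z)
  have hsq : (NatTrans.leftDerived ((tensoringLeft (ModuleCat.{u} R)).map S.f) 0).app Y ≫ (e S.X₂ Y).hom =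
      (e S.X₁ Y).hom ≫ S.f ▷ Y :=
    leftDerived_zero_app_comp ((tensoringLeft (ModuleCat.{u} R)).map S.f) Y
  have h := leftDerived_killed_map_eq_zero ((tensoringLeft (ModuleCat.{u} R)).map S.f)
    ((tensoringLeft (ModuleCat.{u} R)).map S.g) (whisker_zero S)
    (fun Z _ => whisker_shortExact S hS Z) g 0 (z₀ ≫ (e S.X₁ Y).inv) (by
      refine (cancel_mono (e S.X₂ Y).hom).1 ((Category.assoc _ _ _).trans ?_)
      refine Eq.trans ?_ zero_comp.symm
      refine (congrArg (fun m => _ ≫ m) hsq).trans ?_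
      refine (Category.assoc _ _ _).trans ((congrArg (fun m => z₀ ≫ m) (Iso.inv_hom_id_assoc _ _)).trans ?_)
      exact ModuleCat.hom_ext (LinearMap.ext_ring (by
        show S.f.hom.rTensor Y ((1 : R) • z) = 0
        rw [one_smul, hz]))) hg
  have h2 : z₀ ≫ S.X₁ ◁ g = 0 := by
    have hnat : ((CategoryTheory.Tor (ModuleCat.{u} R) 0).obj S.X₁).map g ≫ (e S.X₁ W).hom =
        (e S.X₁ Y).hom ≫ S.X₁ ◁ g := (Tor.zeroIso S.X₁).hom.naturality g
    have := congrArg (fun m => m ≫ (e S.X₁ W).hom) h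
    refine Eq.trans ?_ (this.trans zero_comp)
    refine ((Category.assoc _ _ _).trans ?_).symm
    refine (congrArg (fun m => _ ≫ m) hnat).trans ?_
    exact (Category.assoc _ _ _).trans (congrArg (fun m => z₀ ≫ m) (Iso.inv_hom_id_assoc _ _))
  have := congrArg (fun m => m.hom (1 : R)) h2
  exact (show g.hom.lTensor S.X₁ z = g.hom.lTensor S.X₁ ((1 : R) • z) by rw [one_smul]).trans this

end SES

/-- `(ι →₀ -)` preserves short exact sequences. -/
lemma shortExact_mapRange {ι : Type*} {A B C : Type*} [AddCommGroup A] [AddCommGroup B] [AddCommGroup C]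
    [Module R A] [Module R B] [Module R C] (f : A →ₗ[R] B) (g : B →ₗ[R] C) (h : Function.Exact f g)
    (hf : Function.Injective f) (hg : Function.Surjective g) :
    Function.Exact (Finsupp.mapRange.linearMap f : (ι →₀ A) →ₗ[R] _) (Finsupp.mapRange.linearMap g) ∧
      Function.Injective (Finsupp.mapRange.linearMap f : (ι →₀ A) →ₗ[R] _) ∧
      Function.Surjective (Finsupp.mapRange.linearMap g : (ι →₀ B) →ₗ[R] _) := by
  classical
  refine ⟨fun x => ⟨fun hx => ?_, ?_⟩, Finsupp.mapRange_injective _ (map_zero f) hf,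
    Finsupp.mapRange_surjective _ (map_zero g) hg⟩
  · choose y hy using fun j => (h (x j)).1 (DFunLike.congr_fun hx j)
    exact ⟨Finsupp.onFinset x.support y fun j hj => Finsupp.mem_support_iff.2 fun h0 =>
      hj (hf (by rw [hy j, h0, map_zero])), Finsupp.ext fun j => hy j⟩
  · rintro ⟨y, rfl⟩
    exact Finsupp.ext fun j => h.apply_apply_eq_zero (y j)

/-- `Tor` of quotients by weakly regular sequences. -/
theorem isZero_tor_finsupp_Q (X : ModuleCat.{u} R) (xs : List R) :
    RingTheory.Sequence.IsWeaklyRegular R xs → ∀ (ι : Type) (i : ℕ), xs.length < i →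
      IsZero (((CategoryTheory.Tor (ModuleCat.{u} R) i).obj X).obj
        (ModuleCat.of R (ι →₀ (R ⧸ Ideal.ofList xs)))) := by
  induction xs using List.reverseRecOn with
  | nil =>
    intro _ ι i hi
    obtain ⟨i, rfl⟩ := Nat.exists_eq_add_of_le' (show 1 ≤ i by omega)
    haveI : Module.Projective R (ι →₀ (R ⧸ Ideal.ofList ([] : List R))) :=
      Module.Projective.of_equiv (Finsupp.mapRange.linearEquiv (Submodule.quotEquivOfEqBot _ Ideal.ofList_nil)).symm
    exact isZero_Tor_succ_of_projective _ X _ i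
  | append_singleton xs x ih =>
    intro h ι i hi
    obtain ⟨h1, h2⟩ := H4KoszExt.isSMulRegular_last h
    obtain ⟨g, w, hS, -⟩ := H4KoszExt.exists_ses xs x h2
    obtain ⟨j, rfl⟩ := Nat.exists_eq_add_of_le' (show 1 ≤ i by omega)
    have hlen : (xs ++ [x]).length = xs.length + 1 := by simp
    have hr := shortExact_mapRange (ι := ι) ((x • 𝟙 (H4KoszExt.Q xs) : H4KoszExt.Q xs ⟶ _).hom) g.hom
      (fun v => ⟨fun hv => hS.exact |> (ShortComplex.moduleCat_exact_iff _).1 |> (fun e => e v hv), by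
        rintro ⟨v, rfl⟩
        exact LinearMap.congr_fun (congrArg ModuleCat.Hom.hom w) v⟩) hS.moduleCat_injective_f hS.moduleCat_surjective_g
    let a : ModuleCat.of R (ι →₀ R ⧸ Ideal.ofList xs) ⟶ ModuleCat.of R (ι →₀ R ⧸ Ideal.ofList xs) :=
      ModuleCat.ofHom (Finsupp.mapRange.linearMap (x • 𝟙 (H4KoszExt.Q xs) : H4KoszExt.Q xs ⟶ _).hom)
    let b : ModuleCat.of R (ι →₀ R ⧸ Ideal.ofList xs) ⟶ ModuleCat.of R (ι →₀ R ⧸ Ideal.ofList (xs ++ [x])) :=
      ModuleCat.ofHom (Finsupp.mapRange.linearMap g.hom)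
    obtain ⟨-, -, δ, w₁, w₂, e₁, -⟩ := leftDerived_les ((tensoringLeft (ModuleCat.{u} R)).obj X)
      (ShortComplex.mk a b (ModuleCat.hom_ext (LinearMap.ext fun z => hr.1.apply_apply_eq_zero z)))
      (ModuleCat.shortComplex_shortExact _ hr.1 hr.2.1 hr.2.2) j
    exact e₁.isZero_X₂ ((ih h1 ι (j + 1) (by omega)).eq_of_src _ _) ((ih h1 ι j (by omega)).eq_of_tgt _ _)

section Poly

open MvPolynomial

variable (A : Type u) [CommRing A] (t : ℕ)

/-- `P/J^k` for the ideal of variables of `P = A[x₁, …, x_t]` has Tor dimension at most `t`. -/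
theorem isZero_tor_quot_pow_vars (X : ModuleCat.{u} (MvPolynomial (Fin t) A)) (k : ℕ) (i : ℕ) (hi : t < i) :
    IsZero (((CategoryTheory.Tor (ModuleCat.{u} (MvPolynomial (Fin t) A)) i).obj X).obj
      (ModuleCat.of _ (MvPolynomial (Fin t) A ⧸ idealOfVars (Fin t) A ^ k))) := by
  classical
  let P := MvPolynomial (Fin t) A
  let J : Ideal P := idealOfVars (Fin t) A
  induction k with
  | zero =>
    haveI : Subsingleton (P ⧸ J ^ 0) := Ideal.Quotient.subsingleton_iff.2 (by rw [pow_zero, Ideal.one_eq_top])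
    haveI : Module.Projective P (P ⧸ J ^ 0) := Module.Projective.of_lifting_property'' fun g _ =>
      ⟨0, LinearMap.ext fun x => Subsingleton.elim _ _⟩
    obtain ⟨j, rfl⟩ := Nat.exists_eq_add_of_le' (show 1 ≤ i by omega)
    exact isZero_Tor_succ_of_projective _ X _ j
  | succ k ih =>
    let D := {α : Fin t →₀ ℕ // α.degree = k}
    have hD : ∀ α : D, (monomial α.1 (1 : A) : P) ∈ J ^ k := fun α => by
      rw [mem_pow_idealOfVars_iff]
      intro β hβ
      rw [Finset.mem_singleton.1 (MvPolynomial.support_monomial_subset hβ), α.2]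
    let gen : D → ((P ⧸ J) →ₗ[P] P ⧸ J ^ (k + 1)) := fun α =>
      Submodule.liftQ J (LinearMap.toSpanSingleton P (P ⧸ J ^ (k + 1)) (Submodule.Quotient.mk (monomial α.1 (1 : A))))
        fun p hp => by
          rw [LinearMap.mem_ker, LinearMap.toSpanSingleton_apply, ← Submodule.Quotient.mk_smul,
            Submodule.Quotient.mk_eq_zero, smul_eq_mul, pow_succ']
          exact Ideal.mul_mem_mul hp (hD α)
    let ψ : (D →₀ P ⧸ J) →ₗ[P] P ⧸ J ^ (k + 1) := Finsupp.lsum ℕ gen
    let π : P ⧸ J ^ (k + 1) →ₗ[P] P ⧸ J ^ k :=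
      Submodule.mapQ (J ^ (k + 1)) (J ^ k) LinearMap.id (Ideal.pow_le_pow_right (Nat.le_succ k))
    have hψπ : π ∘ₗ ψ = 0 := by
      refine Finsupp.lhom_ext fun α x => ?_
      obtain ⟨p, rfl⟩ := Submodule.Quotient.mk_surjective _ x
      rw [LinearMap.comp_apply, Finsupp.lsum_single]
      exact (Submodule.Quotient.mk_eq_zero _).2 (Ideal.mul_mem_left _ p (hD α))
    -- lifts of the coefficients
    have hinj : Function.Injective ψ := by
      rw [← LinearMap.ker_eq_bot, LinearMap.ker_eq_bot']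
      intro y hy
      choose p hp using fun α => Submodule.Quotient.mk_surjective J (y α)
      have hsum : ψ y = Submodule.Quotient.mk (∑ α ∈ y.support, p α * monomial α.1 (1 : A)) := by
        rw [Finsupp.lsum_apply, Finsupp.sum, ← Submodule.mkQ_apply, map_sum]
        refine Finset.sum_congr rfl fun α _ => ?_
        rw [← hp α]
        rfl
      rw [hsum, Submodule.Quotient.mk_eq_zero, mem_pow_idealOfVars_iff'] at hy
      refine Finsupp.ext fun α => ?_
      by_contra hne
      rw [Finsupp.zero_apply] at hne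
      refine hne ?_
      rw [← hp α, Submodule.Quotient.mk_eq_zero, show J = J ^ 1 from (pow_one J).symm, mem_pow_idealOfVars_iff']
      intro x hx
      rw [show x = 0 from (Finsupp.degree_eq_zero_iff x).1 (by omega)]
      have := hy α.1 (by rw [α.2]; omega)
      rw [MvPolynomial.coeff_sum, Finset.sum_eq_single α] at this
      · have e := MvPolynomial.coeff_mul_monomial 0 α.1 (1 : A) (p α)
        rw [zero_add, mul_one] at e
        exact e ▸ this
      · intro β _ hβ
        rw [MvPolynomial.coeff_mul_monomial', if_neg]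
        intro hle
        refine hβ (Subtype.ext ?_)
        obtain ⟨γ, hγ⟩ := exists_add_of_le hle
        have := congrArg Finsupp.degree hγ
        rw [map_add, α.2, β.2, Nat.left_eq_add, Finsupp.degree_eq_zero_iff] at this
        rw [hγ, this, add_zero]
      · intro h
        exact absurd (Finsupp.notMem_support_iff.1 h) hne
    haveI : Finite D := (Finsupp.finite_of_degree_le (σ := Fin t) k).to_subtype.of_injective
      (fun α : D => (⟨α.1, α.2.le⟩ : {β : Fin t →₀ ℕ // β.degree ≤ k}))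
      (fun α β h => Subtype.ext (Subtype.mk.inj h))
    haveI := Fintype.ofFinite D
    have hexact : Function.Exact ψ π := fun x => ⟨fun hx => ?_, by rintro ⟨y, rfl⟩; exact LinearMap.congr_fun hψπ y⟩
    swap
    · obtain ⟨p, rfl⟩ := Submodule.Quotient.mk_surjective _ x
      have hp : p ∈ J ^ k := (Submodule.Quotient.mk_eq_zero _).1 hx
      refine ⟨∑ α : D, Finsupp.single α (Submodule.Quotient.mk (C (p.coeff α.1))), ?_⟩
      rw [map_sum]
      refine (Finset.sum_congr rfl fun α _ => (Finsupp.lsum_single ℕ gen α _).trans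
        (show _ = Submodule.mkQ (J ^ (k + 1)) (C (p.coeff α.1) * monomial α.1 1) from rfl)).trans ?_
      rw [← map_sum, Submodule.mkQ_apply, eq_comm, Submodule.Quotient.eq, mem_pow_idealOfVars_iff']
      intro β hβ
      rw [MvPolynomial.coeff_sub, MvPolynomial.coeff_sum, sub_eq_zero]
      refine Eq.trans ?_ (Finset.sum_congr rfl fun α _ => ((MvPolynomial.coeff_C_mul β _ _).trans
        (by rw [MvPolynomial.coeff_monomial, mul_ite, mul_one, mul_zero]))).symm
      by_cases h : β.degree = k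
      · rw [Finset.sum_eq_single ⟨β, h⟩ (fun α _ hα => if_neg fun e => hα (Subtype.ext e))
          (fun h => absurd (Finset.mem_univ _) h), if_pos rfl]
      · rw [Finset.sum_eq_zero fun α _ => if_neg (fun e => h (by rw [← e, α.2]))]
        exact (mem_pow_idealOfVars_iff' k p).1 hp β (by omega)
    have hsurj : Function.Surjective π := fun x => by
      obtain ⟨p, rfl⟩ := Submodule.Quotient.mk_surjective _ x
      exact ⟨Submodule.Quotient.mk p, rfl⟩
    have hJ : Ideal.ofList (List.ofFn fun j : Fin t => (MvPolynomial.X j : P)) = J :=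
      congrArg Ideal.span (Set.ext fun p => by simp [List.mem_ofFn])
    have hz := (isZero_tor_finsupp_Q X _ (H4Gr.isWeaklyRegular_vars A t) D i (by simpa using hi)).of_iso
      ((((CategoryTheory.Tor (ModuleCat.{u} P) i).obj X).mapIso
        (Finsupp.mapRange.linearEquiv (α := D) (Submodule.quotEquivOfEq _ _ hJ)).toModuleIso).symm)
    obtain ⟨⟨w₀, e₀⟩, -, -⟩ := leftDerived_les ((tensoringLeft (ModuleCat.{u} P)).obj X)
      (ShortComplex.mk (ModuleCat.ofHom ψ) (ModuleCat.ofHom π) (ModuleCat.hom_ext hψπ))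
      (ModuleCat.shortComplex_shortExact _ hexact hinj hsurj) i
    exact e₀.isZero_X₂ (hz.eq_of_src _ _) (ih.eq_of_tgt _ _)

end Poly

end Groth.Agent.H4TorAR
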